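import Mathlib

/-!
Galois descent for a field automorphism of finite order: Hilbert 90 for `GL`, surjectivity of
the norm onto the fixed units for finite fields.
-/

set_option autoImplicit false

namespace CfsgLib.Descent

open Matrix

variable {ι : Type*} [Fintype ι] [DecidableEq ι] {F : Type*} [Field F]

/-- Entrywise action on invertible matrices. -/
def glMap (σ : RingAut F) : GL ι F →* GL ι F :=
  Matrix.GeneralLinearGroup.map σ.toRingHom

@[simp] theorem glMap_val (σ : RingAut F) (A : GL ι F) : (glMap σ A).1 = A.1.map σ := rfl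

theorem glMap_glMap (σ τ : RingAut F) (A : GL ι F) :
    glMap σ (glMap τ A) = glMap (σ * τ) A := rfl

theorem glMap_one (A : GL ι F) : glMap (1 : RingAut F) A = A := rfl

/-- `A σ(A) σ²(A) ⋯` with `k` factors. -/
def nprod (σ : RingAut F) (A : GL ι F) : ℕ → GL ι F
  | 0 => 1
  | k + 1 => A * glMap σ (nprod σ A k)

theorem nprod_succ' (σ : RingAut F) (A : GL ι F) :
    ∀ k, nprod σ A (k + 1) = nprod σ A k * glMap (σ ^ k) A
  | 0 => by simp [nprod, glMap_one]
  | k + 1 => by
    show A * glMap σ (nprod σ A (k + 1)) = A * glMap σ (nprod σ A k) * glMap (σ ^ (k + 1)) A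
    rw [nprod_succ' σ A k, map_mul, ← mul_assoc, glMap_glMap, ← pow_succ']

/-- The semilinear map `v ↦ A σ(v)`. -/
def semi (σ : RingAut F) (A : GL ι F) (v : ι → F) : ι → F := A.1 *ᵥ (σ ∘ v)

theorem semi_iterate (σ : RingAut F) (A : GL ι F) :
    ∀ k (v : ι → F), (semi σ A)^[k] v = (nprod σ A k).1 *ᵥ ((σ ^ k : RingAut F) ∘ v)
  | 0, v => by
    simp only [Function.iterate_zero, id_eq, nprod, Units.val_one, one_mulVec, pow_zero]
    rfl
  | k + 1, v => by
    rw [Function.iterate_succ', Function.comp_apply, semi_iterate σ A k v, semi]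
    show A.1 *ᵥ _ = (A * glMap σ (nprod σ A k)).1 *ᵥ _
    rw [Units.val_mul, ← mulVec_mulVec, glMap_val, pow_succ']
    congr 1
    funext i
    exact (σ.toRingHom).map_mulVec _ _ i

theorem semi_add (σ : RingAut F) (A : GL ι F) (v w : ι → F) :
    semi σ A (v + w) = semi σ A v + semi σ A w := by
  rw [semi, semi, semi, ← mulVec_add]
  congr 1
  funext i
  exact map_add σ _ _

/-- **Hilbert 90** for `GL`. -/
theorem exists_h90 {σ : RingAut F} {r : ℕ} (hr : orderOf σ = r) (hr0 : 0 < r) {A : GL ι F}
    (hA : nprod σ A r = 1) : ∃ B : GL ι F, A * glMap σ B = B := by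
  classical
  set φ : (ι → F) →+ (ι → F) :=
    { toFun := semi σ A
      map_zero' := by
        have h := semi_add σ A 0 0
        rw [add_zero] at h
        exact left_eq_add.1 h
      map_add' := semi_add σ A }
  have hφr : ∀ v, (semi σ A)^[r] v = v := by
    intro v
    rw [semi_iterate, hA, Units.val_one, one_mulVec, ← hr, pow_orderOf_eq_one]
    rfl
  let P : (ι → F) → (ι → F) := fun v => ∑ i ∈ Finset.range r, (semi σ A)^[i] v
  have hfix : ∀ v, semi σ A (P v) = P v := by
    intro v
    show φ (P v) = P v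
    rw [map_sum]
    show ∑ i ∈ Finset.range r, semi σ A ((semi σ A)^[i] v) = _
    simp only [← Function.iterate_succ_apply' (semi σ A)]
    have h1 := Finset.sum_range_succ' (fun i => (semi σ A)^[i] v) r
    rw [Finset.sum_range_succ, hφr, Function.iterate_zero_apply] at h1
    exact add_right_cancel h1.symm
  set S : Set (ι → F) := {v | semi σ A v = v} with hS
  have hspan : Submodule.span F S = ⊤ := by
    by_contra hne
    obtain ⟨f, hf0, hf⟩ := Submodule.exists_le_ker_of_lt_top _ (lt_top_iff_ne_top.2 hne)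
    refine hf0 (LinearMap.ext fun v => ?_)
    -- apply Dedekind independence to the coefficients `f (φ^i v)`
    let χ : Fin r → (F →* F) := fun i => ((σ ^ (i : ℕ) : RingAut F) : F →* F)
    have hχ : Function.Injective χ := by
      intro i j h
      have h' : (σ ^ (i : ℕ) : RingAut F) = σ ^ (j : ℕ) :=
        RingEquiv.ext fun x => congrFun (congrArg DFunLike.coe h) x
      rw [pow_inj_mod, hr, Nat.mod_eq_of_lt i.isLt, Nat.mod_eq_of_lt j.isLt] at h'
      exact Fin.ext h'
    have hind := (linearIndependent_monoidHom F F).comp χ hχ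
    rw [Fintype.linearIndependent_iff] at hind
    have key := hind (fun i => f ((semi σ A)^[(i : ℕ)] v)) (funext fun t => by
      have h0 : f (P (t • v)) = 0 := hf (Submodule.subset_span (hfix _))
      rw [map_sum, Finset.sum_range] at h0
      simp only [Finset.sum_apply, Pi.smul_apply, Function.comp_apply, smul_eq_mul, Pi.zero_apply]
      rw [← h0]
      refine Finset.sum_congr rfl fun i _ => ?_
      rw [semi_iterate σ A _ (t • v), semi_iterate σ A _ v,
        show ((σ ^ (i : ℕ) : RingAut F) ∘ (t • v) : ι → F) =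
          (σ ^ (i : ℕ) : RingAut F) t • ((σ ^ (i : ℕ) : RingAut F) ∘ v) from
          funext fun k => map_mul (σ ^ (i : ℕ) : RingAut F) t (v k),
        mulVec_smul, map_smul, smul_eq_mul, mul_comm]
      rfl) ⟨0, hr0⟩
    simpa using key
  obtain ⟨b, hb, hbs, hbi⟩ := exists_linearIndependent F S
  rw [hspan] at hbs
  let B := Module.Basis.mk hbi (by rw [Subtype.range_coe]; exact hbs.ge)
  haveI : Fintype b := FiniteDimensional.fintypeBasisIndex B
  have hcard : Fintype.card ι = Fintype.card b := by
    rw [← Module.finrank_eq_card_basis B, Module.finrank_fintype_fun_eq_card]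
  let e : ι ≃ b := Fintype.equivOfCardEq hcard
  let M : Matrix ι ι F := Matrix.of fun k i => (e i : ι → F) k
  have hMinj : Function.Injective M.mulVec := by
    rw [Matrix.mulVec_injective_iff]
    exact hbi.comp e e.injective
  have hM : IsUnit M := Matrix.mulVec_injective_iff_isUnit.1 hMinj
  refine ⟨hM.unit, Units.ext ?_⟩
  ext k i
  have := congrFun (hb (e i).2) k
  show (A.1 * M.map σ) k i = M k i
  exact this

/-- Hilbert 90 for the multiplicative group. -/
theorem exists_h90_units {σ : RingAut F} {r : ℕ} (hr : orderOf σ = r) (hr0 : 0 < r) {c : F}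
    (hc : ∏ i ∈ Finset.range r, (σ ^ i : RingAut F) c = 1) :
    ∃ b : F, b ≠ 0 ∧ c * σ b = b := by
  have hc0 : c ≠ 0 := by
    intro h0
    rw [Finset.prod_eq_zero (Finset.mem_range.2 hr0) (by simp [h0])] at hc
    exact zero_ne_one hc
  let A : GL Unit F := Matrix.GeneralLinearGroup.mkOfDetNeZero (Matrix.diagonal fun _ => c)
    (by simp [hc0])
  have key : ∀ k, (nprod σ A k).1 () () = ∏ i ∈ Finset.range k, (σ ^ i : RingAut F) c := by
    intro k
    induction k with
    | zero => simp [nprod]
    | succ k ih =>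
      rw [nprod_succ', Units.val_mul, Matrix.mul_apply, Fintype.sum_unique, glMap_val,
        Finset.prod_range_succ, ← ih]
      simp [A, Matrix.GeneralLinearGroup.mkOfDetNeZero]
  obtain ⟨B, hB⟩ := exists_h90 hr hr0 (A := A)
    (Units.ext (Matrix.ext fun i j => by rw [key, hc, Units.val_one, Matrix.one_apply_eq]))
  refine ⟨B.1 () (), fun h0 => ?_, ?_⟩
  · have := B.det.ne_zero
    simp [Matrix.GeneralLinearGroup.val_det_apply, Matrix.det_unique, h0] at this
  · have := congrArg (fun X : GL Unit F => X.1 () ()) hB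
    simpa [A, Matrix.GeneralLinearGroup.mkOfDetNeZero, Matrix.mul_apply] using this

/-- The fixed units. -/
def fixedUnits (σ : RingAut F) : Subgroup Fˣ :=
  MonoidHom.eqLocus (Units.map (σ : F →* F)) (MonoidHom.id Fˣ)

theorem mem_fixedUnits {σ : RingAut F} {u : Fˣ} : u ∈ fixedUnits σ ↔ σ (u : F) = u := by
  show Units.map _ u = u ↔ _
  exact ⟨fun h => congrArg Units.val h, fun h => Units.ext h⟩

/-- The norm of `σ`. -/
def normHom (σ : RingAut F) (r : ℕ) : Fˣ →* Fˣ where
  toFun u := ∏ i ∈ Finset.range r, Units.map ((σ ^ i : RingAut F) : F →* F) u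
  map_one' := by simp
  map_mul' u v := by simp [Finset.prod_mul_distrib]

theorem normHom_val (σ : RingAut F) (r : ℕ) (u : Fˣ) :
    (normHom σ r u : F) = ∏ i ∈ Finset.range r, (σ ^ i : RingAut F) u := by
  show ((∏ i ∈ Finset.range r, Units.map ((σ ^ i : RingAut F) : F →* F) u : Fˣ) : F) = _
  rw [Units.coe_prod]
  rfl

variable [Finite F]

/-- The norm maps onto the fixed units. -/
theorem range_normHom {σ : RingAut F} {r : ℕ} (hr : orderOf σ = r) (hr0 : 0 < r) :
    (normHom σ r).range = fixedUnits σ := by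
  have hσr : σ ^ r = 1 := hr ▸ pow_orderOf_eq_one σ
  have hle : (normHom σ r).range ≤ fixedUnits σ := by
    rintro _ ⟨u, rfl⟩
    rw [mem_fixedUnits, normHom_val, map_prod]
    have h1 := Finset.prod_range_succ' (fun i => (σ ^ i : RingAut F) (u : F)) r
    rw [Finset.prod_range_succ, hσr, pow_zero] at h1
    have hne : (u : F) ≠ 0 := u.ne_zero
    have h2 : ∏ x ∈ Finset.range r, σ ((σ ^ x : RingAut F) (u : F)) =
        ∏ x ∈ Finset.range r, (σ ^ (x + 1) : RingAut F) (u : F) := by
      refine Finset.prod_congr rfl fun x _ => ?_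
      rw [pow_succ']; rfl
    rw [h2]
    exact mul_right_cancel₀ hne h1.symm
  refine Subgroup.eq_of_le_of_card_ge hle ?_
  let ψ : Fˣ →* Fˣ := (MonoidHom.id Fˣ) / Units.map (σ : F →* F)
  have hker : ψ.ker = fixedUnits σ := by
    ext u
    rw [MonoidHom.mem_ker, mem_fixedUnits]
    show u / Units.map (σ : F →* F) u = 1 ↔ _
    rw [div_eq_one]
    exact ⟨fun h => (congrArg Units.val h).symm, fun h => Units.ext h.symm⟩
  have hkN : (normHom σ r).ker ≤ ψ.range := by
    intro c hc
    obtain ⟨b, hb0, hb⟩ := exists_h90_units hr hr0 (c := (c : F))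
      (by rw [← normHom_val]; exact congrArg Units.val hc)
    refine ⟨Units.mk0 b hb0, ?_⟩
    show Units.mk0 b hb0 / Units.map (σ : F →* F) (Units.mk0 b hb0) = c
    rw [div_eq_iff_eq_mul]
    exact Units.ext hb.symm
  have e1 := Subgroup.card_eq_card_quotient_mul_card_subgroup (normHom σ r).ker
  have e2 := Subgroup.card_eq_card_quotient_mul_card_subgroup ψ.ker
  rw [Nat.card_congr (QuotientGroup.quotientKerEquivRange (normHom σ r)).toEquiv] at e1
  rw [Nat.card_congr (QuotientGroup.quotientKerEquivRange ψ).toEquiv, hker] at e2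
  have h3 := Subgroup.card_le_of_le hkN
  have hpos : 0 < Nat.card ψ.range := Nat.card_pos
  have hmul : Nat.card ψ.range * Nat.card (fixedUnits σ) ≤
      Nat.card ψ.range * Nat.card (normHom σ r).range := by
    rw [← e2, e1, mul_comm (Nat.card ψ.range)]
    exact Nat.mul_le_mul_left _ h3
  exact Nat.le_of_mul_le_mul_left hmul hpos

theorem exists_norm_eq {σ : RingAut F} {r : ℕ} (hr : orderOf σ = r) (hr0 : 0 < r) {c : F}
    (hc0 : c ≠ 0) (hc : σ c = c) :
    ∃ a : F, a ≠ 0 ∧ ∏ i ∈ Finset.range r, (σ ^ i : RingAut F) a = c := by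
  have : Units.mk0 c hc0 ∈ (normHom σ r).range := by
    rw [range_normHom hr hr0, mem_fixedUnits]; exact hc
  obtain ⟨u, hu⟩ := this
  exact ⟨u, u.ne_zero, by rw [← normHom_val]; exact congrArg Units.val hu⟩

end CfsgLib.Descent
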