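import Mathlib
import Cfsg.Agent.Lib.Descent.Hilbert90

/-!
Non-degenerate Hermitian matrices over a finite field are congruent to the identity.
-/

set_option autoImplicit false

namespace CfsgLib.Descent

open Matrix

variable {ι : Type*} [Fintype ι] [DecidableEq ι] {F : Type*} [Field F]

/-- The sesquilinear form attached to a matrix. -/
def sesq (σ : RingAut F) (A : Matrix ι ι F) (u v : ι → F) : F := u ⬝ᵥ (A *ᵥ (σ ∘ v))

theorem sesq_add_left (σ : RingAut F) (A : Matrix ι ι F) (u u' v : ι → F) :
    sesq σ A (u + u') v = sesq σ A u v + sesq σ A u' v := add_dotProduct _ _ _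

theorem sesq_smul_left (σ : RingAut F) (A : Matrix ι ι F) (c : F) (u v : ι → F) :
    sesq σ A (c • u) v = c * sesq σ A u v := smul_dotProduct _ _ _

theorem sesq_add_right (σ : RingAut F) (A : Matrix ι ι F) (u v v' : ι → F) :
    sesq σ A u (v + v') = sesq σ A u v + sesq σ A u v' := by
  rw [sesq, sesq, sesq, show (σ ∘ (v + v') : ι → F) = σ ∘ v + σ ∘ v' from
    funext fun i => map_add σ (v i) (v' i), mulVec_add, dotProduct_add]

theorem sesq_smul_right (σ : RingAut F) (A : Matrix ι ι F) (c : F) (u v : ι → F) :
    sesq σ A u (c • v) = σ c * sesq σ A u v := by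
  rw [sesq, sesq, show (σ ∘ (c • v) : ι → F) = σ c • (σ ∘ v) from
    funext fun i => map_mul σ c (v i), mulVec_smul, dotProduct_smul, smul_eq_mul]

theorem sesq_symm (σ : RingAut F) (hσ : σ * σ = 1) {A : Matrix ι ι F}
    (hA : (A.map σ)ᵀ = A) (u v : ι → F) : sesq σ A v u = σ (sesq σ A u v) := by
  have h2 : ∀ x, σ (σ x) = x := fun x => congrArg (fun τ : RingAut F => τ x) hσ
  have hA' : ∀ i j, σ (A i j) = A j i := fun i j => congrFun (congrFun hA j) i
  simp only [sesq, dotProduct, mulVec, Function.comp_apply, Finset.mul_sum, map_sum, map_mul, h2]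
  rw [Finset.sum_comm]
  refine Finset.sum_congr rfl fun i _ => Finset.sum_congr rfl fun j _ => ?_
  rw [hA']; ring

variable [Finite F]

theorem exists_orthonormal (σ : RingAut F) (hσ : orderOf σ = 2) (A : GL ι F)
    (hA : (A.1.map σ)ᵀ = A.1) :
    ∀ k ≤ Fintype.card ι, ∃ v : Fin k → (ι → F),
      ∀ i j, sesq σ A.1 (v i) (v j) = if i = j then 1 else 0 := by
  classical
  have hσ2 : σ * σ = 1 := by rw [← sq, ← hσ, pow_orderOf_eq_one]
  intro k
  induction k with
  | zero => exact fun _ => ⟨Fin.elim0, fun i => i.elim0⟩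
  | succ k ih =>
    intro hk
    obtain ⟨v, hv⟩ := ih (by omega)
    -- the orthogonal complement
    let L : (ι → F) →ₗ[F] (Fin k → F) :=
      { toFun := fun u i => sesq σ A.1 u (v i)
        map_add' := fun u u' => funext fun i => sesq_add_left σ A.1 u u' (v i)
        map_smul' := fun c u => funext fun i => sesq_smul_left σ A.1 c u (v i) }
    obtain ⟨w, hw, hw0⟩ : ∃ w, L w = 0 ∧ w ≠ 0 := by
      by_contra hc
      push Not at hc
      have hinj : Function.Injective L := (injective_iff_map_eq_zero L).2 hc
      have := LinearMap.finrank_le_finrank_of_injective hinj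
      rw [Module.finrank_fintype_fun_eq_card, Module.finrank_fin_fun] at this
      omega
    obtain ⟨z, hz, hzz⟩ : ∃ z, L z = 0 ∧ sesq σ A.1 z z ≠ 0 := by
      by_contra hc
      push Not at hc
      have hWW : ∀ a b, L a = 0 → L b = 0 → sesq σ A.1 a b = 0 := by
        intro a b ha hb
        by_contra hab
        have htr : ∀ x : F, x + σ x = 0 := by
          intro x
          set t := x / sesq σ A.1 a b
          have h := hc (t • a + b) (by rw [map_add, map_smul, ha, hb, smul_zero, add_zero])
          rw [sesq_add_left, sesq_add_right, sesq_add_right, sesq_smul_left, sesq_smul_left,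
            sesq_smul_right, sesq_smul_right, hc a ha, hc b hb, sesq_symm σ hσ2 hA a b] at h
          have hx : t * sesq σ A.1 a b = x := div_mul_cancel₀ _ hab
          have hx' : σ t * σ (sesq σ A.1 a b) = σ x := by rw [← map_mul, hx]
          linear_combination h - hx - hx'
        have h1 := htr 1
        rw [map_one] at h1
        have : σ = 1 := RingEquiv.ext fun x => by
          have h2 := htr x
          show σ x = x
          linear_combination h2 - x * h1
        rw [this, orderOf_one] at hσ
        omega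
      -- then `w` is orthogonal to everything
      have hall : ∀ u, sesq σ A.1 u w = 0 := by
        intro u
        set u' := u - ∑ i, sesq σ A.1 u (v i) • v i with hu'
        have hu'L : L u' = 0 := funext fun j => by
          rw [hu', map_sub, map_sum, Pi.sub_apply, Finset.sum_apply, Pi.zero_apply, sub_eq_zero]
          show sesq σ A.1 u (v j) = ∑ i, L (sesq σ A.1 u (v i) • v i) j
          rw [Finset.sum_eq_single j]
          · rw [map_smul, Pi.smul_apply, smul_eq_mul]
            show _ = _ * sesq σ A.1 (v j) (v j)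
            rw [hv, if_pos rfl, mul_one]
          · intro i _ hij
            rw [map_smul, Pi.smul_apply, smul_eq_mul]
            show _ * sesq σ A.1 (v i) (v j) = 0
            rw [hv, if_neg hij, mul_zero]
          · intro h; exact absurd (Finset.mem_univ j) h
        have h1 := hWW u' w hu'L hw
        have hvw : ∀ i, sesq σ A.1 (v i) w = 0 := fun i => by
          rw [sesq_symm σ hσ2 hA w (v i), show sesq σ A.1 w (v i) = 0 from congrFun hw i, map_zero]
        have hu : u = u' + ∑ i, sesq σ A.1 u (v i) • v i := by rw [hu', sub_add_cancel]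
        rw [hu, sesq_add_left, h1, zero_add]
        rw [sesq, sum_dotProduct]
        refine Finset.sum_eq_zero fun i _ => ?_
        rw [smul_dotProduct]
        show _ • sesq σ A.1 (v i) w = 0
        rw [hvw, smul_zero]
      have hAw : A.1 *ᵥ (σ ∘ w) = 0 := dotProduct_eq_zero _ fun u => by
        rw [dotProduct_comm]; exact hall u
      apply hw0
      have h3 := congrArg (fun x => (A⁻¹).1 *ᵥ x) hAw
      rw [mulVec_mulVec, Units.inv_mul, one_mulVec, mulVec_zero] at h3
      exact funext fun i => σ.injective (by rw [Pi.zero_apply, map_zero]; exact congrFun h3 i)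
    have hzfix : σ (sesq σ A.1 z z) = sesq σ A.1 z z := (sesq_symm σ hσ2 hA z z).symm
    obtain ⟨a, ha0, ha⟩ := exists_norm_eq hσ two_pos hzz hzfix
    rw [Finset.prod_range_succ, Finset.prod_range_one, pow_zero, pow_one] at ha
    refine ⟨Fin.cons (a⁻¹ • z) v, fun i j => ?_⟩
    have hzv : ∀ i, sesq σ A.1 z (v i) = 0 := fun i => congrFun hz i
    cases i using Fin.cases with
    | zero =>
      cases j using Fin.cases with
      | zero =>
        rw [Fin.cons_zero, if_pos rfl, sesq_smul_left, sesq_smul_right, ← ha, map_inv₀]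
        show a⁻¹ * ((σ a)⁻¹ * (a * σ a)) = 1
        have : σ a ≠ 0 := fun h => ha0 (σ.injective (by rw [h, map_zero]))
        field_simp
      | succ j =>
        rw [Fin.cons_zero, Fin.cons_succ, sesq_smul_left, hzv, mul_zero,
          if_neg (Fin.succ_ne_zero j).symm]
    | succ i =>
      cases j using Fin.cases with
      | zero =>
        rw [Fin.cons_zero, Fin.cons_succ, sesq_smul_right, sesq_symm σ hσ2 hA z (v i), hzv,
          map_zero, mul_zero, if_neg (Fin.succ_ne_zero i)]
      | succ j =>
        rw [Fin.cons_succ, Fin.cons_succ, hv]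
        simp [Fin.succ_inj]

/-- A non-singular Hermitian matrix is `B σ(B)ᵀ`. -/
theorem exists_hermitian_decomp (σ : RingAut F) (hσ : orderOf σ = 2) (A : GL ι F)
    (hA : (A.1.map σ)ᵀ = A.1) : ∃ B : GL ι F, A.1 = B.1 * (B.1.map σ)ᵀ := by
  classical
  obtain ⟨v, hv⟩ := exists_orthonormal σ hσ A hA (Fintype.card ι) le_rfl
  set e := Fintype.equivFin ι
  set M : Matrix ι ι F := Matrix.of fun i j => v (e i) j with hM
  have h1 : M * A.1 * (M.map σ)ᵀ = 1 := by
    ext i j
    have h := hv (e i) (e j)
    rw [Matrix.one_apply]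
    simp only [EmbeddingLike.apply_eq_iff_eq] at h
    rw [← h, sesq, dotProduct_mulVec]
    rfl
  have hdet : M.det ≠ 0 := fun h0 => by
    have := congrArg Matrix.det h1
    rw [Matrix.det_mul, Matrix.det_mul, h0, zero_mul, zero_mul, Matrix.det_one] at this
    exact zero_ne_one this
  set G : GL ι F := Matrix.GeneralLinearGroup.mkOfDetNeZero M hdet
  refine ⟨G⁻¹, ?_⟩
  have hmap : ((G⁻¹).1.map σ)ᵀ = ((glMap σ G)⁻¹).1ᵀ := by rw [← map_inv]; rfl
  rw [hmap]
  have h2 : (G⁻¹).1 * (M * A.1 * (M.map σ)ᵀ) * ((glMap σ G)⁻¹).1ᵀ = A.1 := by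
    show (G⁻¹).1 * (G.1 * A.1 * (glMap σ G).1ᵀ) * ((glMap σ G)⁻¹).1ᵀ = A.1
    rw [mul_assoc, mul_assoc (G.1 * A.1), ← Matrix.transpose_mul, Units.inv_mul,
      Matrix.transpose_one, mul_one, ← mul_assoc, Units.inv_mul, one_mul]
  rw [h1, mul_one] at h2
  exact h2.symm

end CfsgLib.Descent
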