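import Mathlib
import Cfsg.Agent.Lib.Descent.Hilbert90

/-!
The fixed field of an automorphism of a finite field.
-/

set_option autoImplicit false

namespace CfsgLib.Descent

variable {F : Type*} [Field F]

/-- The fixed subfield. -/
def fixedField (σ : RingAut F) : Subfield F where
  carrier := {x | σ x = x}
  mul_mem' {a b} ha hb := by simp only [Set.mem_setOf_eq, map_mul] at *; rw [ha, hb]
  one_mem' := map_one σ
  add_mem' {a b} ha hb := by simp only [Set.mem_setOf_eq, map_add] at *; rw [ha, hb]
  zero_mem' := map_zero σ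
  neg_mem' {a} ha := by simp only [Set.mem_setOf_eq, map_neg] at *; rw [ha]
  inv_mem' a ha := by simp only [Set.mem_setOf_eq, map_inv₀] at *; rw [ha]

theorem mem_fixedField {σ : RingAut F} {x : F} : x ∈ fixedField σ ↔ σ x = x := Iff.rfl

variable [Fintype F]

/-- The fixed field has degree equal to the order of the automorphism. -/
theorem card_fixedField_pow (σ : RingAut F) :
    Nat.card (fixedField σ) ^ orderOf σ = Fintype.card F := by
  classical
  haveI : Finite (RingAut F) := Finite.of_injective (fun τ : RingAut F => (τ : F → F))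
    DFunLike.coe_injective
  haveI : FaithfulSMul (Subgroup.zpowers σ) F :=
    ⟨fun h => Subtype.ext (RingEquiv.ext h)⟩
  haveI : Fintype (Subgroup.zpowers σ) := Fintype.ofFinite _
  set K := FixedPoints.subfield (Subgroup.zpowers σ) F
  have hK : ∀ x, x ∈ K ↔ σ x = x := by
    intro x
    constructor
    · exact fun h => h ⟨σ, Subgroup.mem_zpowers σ⟩
    · intro h g
      obtain ⟨τ, hτ⟩ := g
      obtain ⟨k, rfl⟩ := hτ
      have hst : σ ∈ MulAction.stabilizer (RingAut F) x := h
      exact MulAction.mem_stabilizer_iff.1 (Subgroup.zpow_mem _ hst k)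
  have hKL : Nat.card K = Nat.card (fixedField σ) := Nat.card_congr (Equiv.subtypeEquivRight hK)
  have hfin : Module.finrank K F = orderOf σ := by
    rw [FixedPoints.finrank_eq_card (G := Subgroup.zpowers σ) F, ← Nat.card_eq_fintype_card,
      Nat.card_zpowers]
  rw [← hKL, ← hfin, ← Module.natCard_eq_pow_finrank, Nat.card_eq_fintype_card]

theorem card_fixedField {σ : RingAut F} {p f r : ℕ} (hp : p.Prime) (hF : Fintype.card F = p ^ f)
    (hr : orderOf σ = r) (hr0 : 0 < r) :
    r ∣ f ∧ Nat.card (fixedField σ) = p ^ (f / r) := by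
  have h := card_fixedField_pow σ
  rw [hr, hF] at h
  have hdvd : Nat.card (fixedField σ) ∣ p ^ f := h ▸ dvd_pow_self _ hr0.ne'
  obtain ⟨d, -, hd⟩ := (Nat.dvd_prime_pow hp).1 hdvd
  rw [hd, ← pow_mul] at h
  have hf : d * r = f := Nat.pow_right_injective hp.two_le h
  exact ⟨⟨d, by rw [← hf, mul_comm]⟩, by rw [hd, ← hf, Nat.mul_div_cancel _ hr0]⟩

theorem card_fixedUnits (σ : RingAut F) :
    Nat.card (fixedUnits σ) = Nat.card (fixedField σ) - 1 := by
  classical
  haveI : Fintype (fixedField σ) := Fintype.ofFinite _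
  rw [← Nat.card_units]
  refine Nat.card_congr
    { toFun := fun u => Units.mk0 ⟨u.1, mem_fixedUnits.1 u.2⟩ fun h =>
        u.1.ne_zero (congrArg Subtype.val h)
      invFun := fun v => ⟨Units.mk0 ((v : fixedField σ) : F) fun h =>
        v.ne_zero (Subtype.ext h), mem_fixedUnits.2 (v : fixedField σ).2⟩
      left_inv := fun u => Subtype.ext (Units.ext rfl)
      right_inv := fun v => Units.ext (Subtype.ext rfl) }

/-- The index of the join of the `n`-th powers with a subgroup of a finite cyclic group. -/
theorem index_powRange_sup {G : Type*} [CommGroup G] [IsCyclic G] [Finite G] (n : ℕ)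
    (H : Subgroup G) :
    ((powMonoidHom n : G →* G).range ⊔ H).index = Nat.gcd H.index n := by
  haveI : IsCyclic (G ⧸ H) :=
    isCyclic_of_surjective (QuotientGroup.mk' H) (QuotientGroup.mk'_surjective H)
  have h : ((powMonoidHom n : G →* G).range ⊔ H) =
      ((powMonoidHom n : G ⧸ H →* G ⧸ H).range).comap (QuotientGroup.mk' H) := by
    have : ((powMonoidHom n : G ⧸ H →* G ⧸ H).range) =
        ((powMonoidHom n : G →* G).range).map (QuotientGroup.mk' H) := by
      ext y
      constructor
      · rintro ⟨z, rfl⟩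
        obtain ⟨x, rfl⟩ := QuotientGroup.mk'_surjective H z
        exact ⟨x ^ n, ⟨x, rfl⟩, map_pow _ _ _⟩
      · rintro ⟨_, ⟨x, rfl⟩, rfl⟩
        exact ⟨QuotientGroup.mk' H x, (map_pow _ _ _).symm⟩
    rw [this, QuotientGroup.comap_map_mk', sup_comm]
  rw [h, Subgroup.index_comap_of_surjective _ (QuotientGroup.mk'_surjective H),
    IsCyclic.index_powMonoidHom_range, ← Subgroup.index_eq_card]

end CfsgLib.Descent
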