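import Mathlib
import Cfsg.Prelude.Def_LieTypeDatum

/-!
Splitting of a class under a normal subgroup with commutative quotient, and transport of the
centraliser and of the class count under an automorphism.
-/

set_option autoImplicit false

namespace CfsgLib.Descent

variable {X : Type*} [Group X]

/-- If `H` is the image of `Φ` and `K` the image of `ker D`, the class of `x` under `H` splits into
as many classes under `K` as the index of the `D`-image of the centraliser. -/
theorem splitClassCount_eq_index_of_hom {G A : Type*} [Group G] [CommGroup A] (Φ : G →* X)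
    (D : G →* A) (hD : Function.Surjective D) (x : X) {H K : Subgroup X} (hH : H = Φ.range)
    (hK : K = D.ker.map Φ) :
    Cfsg.splitClassCount H K x = (((Subgroup.centralizer {x}).comap Φ).map D).index := by
  classical
  subst hH; subst hK
  set S := ((Subgroup.centralizer {x}).comap Φ).map D with hS
  let Q : G → A ⧸ S := fun g => QuotientGroup.mk (D g)
  have crit : ∀ g h : G,
      Cfsg.IsConjUnder (D.ker.map Φ) (Φ g * x * (Φ g)⁻¹) (Φ h * x * (Φ h)⁻¹) ↔ Q g = Q h := by
    intro g h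
    constructor
    · rintro ⟨_, ⟨s, hs, rfl⟩, he⟩
      have hzc : (s * g)⁻¹ * h ∈ (Subgroup.centralizer {x}).comap Φ := by
        simp only [Subgroup.mem_comap, Subgroup.mem_centralizer_iff, Set.mem_singleton_iff,
          forall_eq, map_mul, map_inv]
        calc x * ((Φ s * Φ g)⁻¹ * Φ h)
            = (Φ s * Φ g)⁻¹ * (Φ s * (Φ g * x * (Φ g)⁻¹) * (Φ s)⁻¹) * Φ h := by group
          _ = (Φ s * Φ g)⁻¹ * (Φ h * x * (Φ h)⁻¹) * Φ h := by rw [← he]
          _ = _ := by group
      refine QuotientGroup.eq.2 ⟨_, hzc, ?_⟩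
      rw [map_mul, map_inv, map_mul, show D s = 1 from hs, one_mul]
    · intro hd
      obtain ⟨z, hz, hzd⟩ := QuotientGroup.eq.1 hd
      refine ⟨Φ (h * z⁻¹ * g⁻¹), ⟨_, ?_, rfl⟩, ?_⟩
      · show D (h * z⁻¹ * g⁻¹) = 1
        rw [map_mul, map_mul, map_inv, map_inv, hzd, _root_.mul_inv_rev, inv_inv, ← mul_assoc,
          mul_inv_cancel, one_mul, mul_inv_cancel]
      · have hc : x * Φ z = Φ z * x := by
          simpa [Subgroup.mem_centralizer_iff] using hz
        simp only [map_mul, map_inv]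
        calc Φ h * x * (Φ h)⁻¹ = Φ h * (Φ z)⁻¹ * (Φ z * x) * (Φ h)⁻¹ := by group
          _ = Φ h * (Φ z)⁻¹ * (x * Φ z) * (Φ h)⁻¹ := by rw [hc]
          _ = _ := by group
  have hex : ∀ y : {y : X // Cfsg.IsConjUnder Φ.range x y}, ∃ g, y.1 = Φ g * x * (Φ g)⁻¹ := by
    rintro ⟨y, _, ⟨g, rfl⟩, rfl⟩
    exact ⟨g, rfl⟩
  choose G' hG using hex
  let f : Quot (fun y z : {y : X // Cfsg.IsConjUnder Φ.range x y} =>
      Cfsg.IsConjUnder (D.ker.map Φ) y.1 z.1) → A ⧸ S :=
    Quot.lift (fun y => Q (G' y)) fun y z hyz => by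
      rw [hG y, hG z] at hyz
      exact (crit _ _).1 hyz
  refine Nat.card_eq_of_bijective f ⟨?_, ?_⟩
  · rintro ⟨y⟩ ⟨z⟩ hyz
    refine Quot.sound ?_
    show Cfsg.IsConjUnder (D.ker.map Φ) y.1 z.1
    rw [hG y, hG z]
    exact (crit _ _).2 hyz
  · intro a
    obtain ⟨u, rfl⟩ := QuotientGroup.mk'_surjective S a
    obtain ⟨g, rfl⟩ := hD u
    refine ⟨Quot.mk _ ⟨Φ g * x * (Φ g)⁻¹, Φ g, ⟨g, rfl⟩, rfl⟩, ?_⟩
    refine ((crit _ _).1 ⟨1, one_mem _, ?_⟩).symm
    rw [← hG]
    group

theorem isConjUnder_conj {H : Subgroup X} [H.Normal] (α x y : X) :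
    Cfsg.IsConjUnder H (α * x * α⁻¹) (α * y * α⁻¹) ↔ Cfsg.IsConjUnder H x y := by
  constructor
  · rintro ⟨h, hh, he⟩
    refine ⟨α⁻¹ * h * α, by simpa using Subgroup.Normal.conj_mem inferInstance h hh α⁻¹, ?_⟩
    calc y = α⁻¹ * (α * y * α⁻¹) * α := by group
      _ = α⁻¹ * (h * (α * x * α⁻¹) * h⁻¹) * α := by rw [he]
      _ = _ := by group
  · rintro ⟨h, hh, rfl⟩
    exact ⟨α * h * α⁻¹, Subgroup.Normal.conj_mem inferInstance h hh α, by group⟩

/-- Centralisers in a normal subgroup of conjugate elements are isomorphic. -/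
theorem exists_centralizer_equiv_of_normal (H : Subgroup X) [hH : H.Normal] (x α : X) :
    Nonempty ((H ⊓ Subgroup.centralizer {x} : Subgroup X) ≃*
      (H ⊓ Subgroup.centralizer {α * x * α⁻¹} : Subgroup X)) := by
  refine ⟨((MulAut.conj α).subgroupMap _).trans (MulEquiv.subgroupCongr ?_)⟩
  ext y
  simp only [Subgroup.mem_map, Subgroup.mem_inf, Subgroup.mem_centralizer_iff,
    Set.mem_singleton_iff, forall_eq, MulEquiv.coe_toMonoidHom, MulAut.conj_apply]
  constructor
  · rintro ⟨z, ⟨hz, hc⟩, rfl⟩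
    refine ⟨hH.conj_mem z hz α, ?_⟩
    show α * x * α⁻¹ * (α * z * α⁻¹) = α * z * α⁻¹ * (α * x * α⁻¹)
    calc α * x * α⁻¹ * (α * z * α⁻¹) = α * (x * z) * α⁻¹ := by group
      _ = α * (z * x) * α⁻¹ := by rw [hc]
      _ = _ := by group
  · rintro ⟨hy, hc⟩
    refine ⟨α⁻¹ * y * α, ⟨by simpa using hH.conj_mem y hy α⁻¹, ?_⟩,
      show α * (α⁻¹ * y * α) * α⁻¹ = y by group⟩
    calc x * (α⁻¹ * y * α) = α⁻¹ * (α * x * α⁻¹ * y) * α := by group
      _ = α⁻¹ * (y * (α * x * α⁻¹)) * α := by rw [hc]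
      _ = _ := by group

/-- The class count is invariant under conjugation when both subgroups are normal. -/
theorem splitClassCount_conj_of_normal (H K : Subgroup X) [H.Normal] [K.Normal] (x α : X) :
    Cfsg.splitClassCount H K (α * x * α⁻¹) = Cfsg.splitClassCount H K x := by
  unfold Cfsg.splitClassCount
  refine (Nat.card_congr (Quot.congr ?_ ?_)).symm
  · exact
      { toFun := fun y => ⟨α * y.1 * α⁻¹, (isConjUnder_conj α x y.1).2 y.2⟩
        invFun := fun y => ⟨α⁻¹ * y.1 * α, (isConjUnder_conj α x _).1 (by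
          rw [show α * (α⁻¹ * y.1 * α) * α⁻¹ = y.1 by group]; exact y.2)⟩
        left_inv := fun y => Subtype.ext (by group)
        right_inv := fun y => Subtype.ext (by group) }
  · exact fun y z => (isConjUnder_conj α y.1 z.1).symm

end CfsgLib.Descent
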