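import Mathlib
import Cfsg.Agent.Lib.Descent.FixedField

/-!
Symplectic bases, and descent of alternating forms to the fixed field.
-/

set_option autoImplicit false

namespace CfsgLib.Descent

open Matrix

variable {K : Type*} [Field K]

/-- A non-degenerate alternating form in dimension `2m` has a symplectic basis. -/
theorem exists_symplectic_basis {m : ℕ} (M : Matrix (Fin m ⊕ Fin m) (Fin m ⊕ Fin m) K)
    (halt : ∀ x, x ⬝ᵥ (M *ᵥ x) = 0) (hdet : M.det ≠ 0) :
    ∃ C : GL (Fin m ⊕ Fin m) K, C.1ᵀ * M * C.1 = Matrix.J (Fin m) K := by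
  classical
  let B : (Fin m ⊕ Fin m → K) → (Fin m ⊕ Fin m → K) → K := fun x y => x ⬝ᵥ (M *ᵥ y)
  have hadd1 : ∀ x x' y, B (x + x') y = B x y + B x' y := fun _ _ _ => add_dotProduct _ _ _
  have hadd2 : ∀ x y y', B x (y + y') = B x y + B x y' := fun _ _ _ => by
    simp [B, Matrix.mulVec_add, dotProduct_add]
  have hsmul1 : ∀ (a : K) x y, B (a • x) y = a * B x y := fun _ _ _ => by simp [B]
  have hsmul2 : ∀ (a : K) x y, B x (a • y) = a * B x y := fun _ _ _ => by
    simp [B, Matrix.mulVec_smul]
  have hskew : ∀ x y, B x y = -B y x := by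
    intro x y
    have h : B (x + y) (x + y) = 0 := halt _
    rw [hadd1, hadd2, hadd2] at h
    have h1 : B x x = 0 := halt x
    have h2 : B y y = 0 := halt y
    linear_combination h - h1 - h2
  have key : ∀ k, k ≤ m → ∃ u v : Fin k → (Fin m ⊕ Fin m → K),
      (∀ i j, B (u i) (u j) = 0) ∧ (∀ i j, B (v i) (v j) = 0) ∧
      ∀ i j, B (u i) (v j) = if i = j then -1 else 0 := by
    intro k
    induction k with
    | zero => exact fun _ => ⟨Fin.elim0, Fin.elim0, fun i => i.elim0, fun i => i.elim0, fun i => i.elim0⟩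
    | succ k ih =>
      intro hk
      obtain ⟨u, v, huu, hvv, huv⟩ := ih (by omega)
      let L : (Fin m ⊕ Fin m → K) →ₗ[K] (Fin k ⊕ Fin k → K) :=
        { toFun := fun x => Sum.elim (fun i => B (u i) x) (fun i => B (v i) x)
          map_add' := fun x y => by ext i; rcases i with i | i <;> simp [hadd2]
          map_smul' := fun a x => by ext i; rcases i with i | i <;> simp [hsmul2] }
      have hlt : Module.finrank K (Fin k ⊕ Fin k → K) < Module.finrank K (Fin m ⊕ Fin m → K) := by
        simp; omega
      obtain ⟨x, hx, hx0⟩ :=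
        Submodule.exists_mem_ne_zero_of_ne_bot (LinearMap.ker_ne_bot_of_finrank_lt (f := L) hlt)
      have hxu : ∀ i, B (u i) x = 0 := fun i => congrFun (LinearMap.mem_ker.1 hx) (.inl i)
      have hxv : ∀ i, B (v i) x = 0 := fun i => congrFun (LinearMap.mem_ker.1 hx) (.inr i)
      obtain ⟨y₀, hy₀⟩ : ∃ y, B y x ≠ 0 := by
        by_contra hcon
        simp only [not_exists, not_not] at hcon
        refine hdet (Matrix.exists_mulVec_eq_zero_iff.1 ⟨x, hx0, ?_⟩)
        funext i
        simpa [B] using hcon (Pi.single i 1)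
      let w : Fin m ⊕ Fin m → K :=
        ∑ i, ((-B (v i) y₀) • u i + (B (u i) y₀) • v i)
      have hBsum : ∀ z, B z w = ∑ i, ((-B (v i) y₀) * B z (u i) + (B (u i) y₀) * B z (v i)) := by
        intro z
        simp [w, B, Matrix.mulVec_sum, Matrix.mulVec_add, Matrix.mulVec_smul, dotProduct_sum,
          dotProduct_add, dotProduct_smul, Matrix.mulVec_neg, dotProduct_neg, neg_smul]
      have hwu : ∀ j, B (u j) w = -B (u j) y₀ := fun j => by
        rw [hBsum, Finset.sum_eq_single j]
        · rw [huu, huv, if_pos rfl]; ring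
        · intro i _ hi; rw [huu, huv, if_neg (Ne.symm hi)]; ring
        · simp
      have hwv : ∀ j, B (v j) w = -B (v j) y₀ := fun j => by
        rw [hBsum, Finset.sum_eq_single j]
        · rw [hvv, hskew (v j) (u j), huv, if_pos rfl]; ring
        · intro i _ hi; rw [hvv, hskew (v j) (u i), huv, if_neg hi]; ring
        · simp
      have hwx : B x w = 0 := by
        rw [hBsum]
        refine Finset.sum_eq_zero fun i _ => ?_
        rw [hskew x (u i), hskew x (v i), hxu, hxv]; ring
      set y := (B y₀ x)⁻¹ • (y₀ + w) with hy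
      have hxy : B x y = -1 := by
        rw [hy, hsmul2, hadd2, hwx, add_zero, hskew x y₀, mul_neg, inv_mul_cancel₀ hy₀]
      have hyu : ∀ i, B (u i) y = 0 := fun i => by rw [hy, hsmul2, hadd2, hwu]; ring
      have hyv : ∀ i, B (v i) y = 0 := fun i => by rw [hy, hsmul2, hadd2, hwv]; ring
      refine ⟨Fin.snoc u x, Fin.snoc v y, ?_, ?_, ?_⟩
      · intro i j
        refine Fin.lastCases ?_ (fun i => ?_) i <;> refine Fin.lastCases ?_ (fun j => ?_) j <;>
          simp only [Fin.snoc_last, Fin.snoc_castSucc]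
        · exact halt x
        · rw [hskew, hxu, neg_zero]
        · exact hxu i
        · exact huu i j
      · intro i j
        refine Fin.lastCases ?_ (fun i => ?_) i <;> refine Fin.lastCases ?_ (fun j => ?_) j <;>
          simp only [Fin.snoc_last, Fin.snoc_castSucc]
        · exact halt y
        · rw [hskew, hyv, neg_zero]
        · exact hyv i
        · exact hvv i j
      · intro i j
        refine Fin.lastCases ?_ (fun i => ?_) i <;> refine Fin.lastCases ?_ (fun j => ?_) j <;>
          simp only [Fin.snoc_last, Fin.snoc_castSucc]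
        · simpa using hxy
        · rw [hskew, hxv, neg_zero, if_neg (Fin.castSucc_lt_last j).ne']
        · rw [hyu, if_neg (Fin.castSucc_lt_last i).ne]
        · rw [huv]; simp
  obtain ⟨u, v, huu, hvv, huv⟩ := key m le_rfl
  set C : Matrix (Fin m ⊕ Fin m) (Fin m ⊕ Fin m) K := Matrix.of fun r a => Sum.elim u v a r with hC
  have hcol : ∀ a, C *ᵥ Pi.single a 1 = Sum.elim u v a := fun a => by
    rw [Matrix.mulVec_single_one]; rfl
  have he : Cᵀ * M * C = Matrix.J (Fin m) K := by
    ext a b
    have h1 : (Cᵀ * M * C) a b = B (Sum.elim u v a) (Sum.elim u v b) := by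
      rw [← hcol, ← hcol]
      show _ = (C *ᵥ Pi.single a 1) ⬝ᵥ (M *ᵥ (C *ᵥ Pi.single b 1))
      rw [Matrix.mulVec_mulVec, ← Matrix.vecMul_transpose C (Pi.single a 1),
        ← Matrix.dotProduct_mulVec, Matrix.mulVec_mulVec, ← mul_assoc]
      simp
    rw [h1]
    rcases a with a | a <;> rcases b with b | b <;> simp only [Sum.elim_inl, Sum.elim_inr]
    · simp [huu, Matrix.J]
    · rw [huv]
      simp [Matrix.J, Matrix.one_apply]
      split <;> simp
    · rw [hskew, huv]
      simp [Matrix.J, Matrix.one_apply, eq_comm (a := a) (b := b)]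
      split <;> simp
    · simp [hvv, Matrix.J]
  have hCdet : C.det ≠ 0 := by
    intro h0
    have h2 := congrArg Matrix.det he
    rw [Matrix.det_mul, Matrix.det_mul, h0, mul_zero] at h2
    exact (Matrix.isUnit_det_J (Fin m) K).ne_zero h2.symm
  exact ⟨Matrix.GeneralLinearGroup.mkOfDetNeZero C hCdet, he⟩

end CfsgLib.Descent
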